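import Groth.Agent.BendBreak.Extend
import Groth.Agent.Chow.ToPn

/-!
# Points of projective space by homogeneous coordinates
-/

set_option autoImplicit false
set_option backward.isDefEq.respectTransparency.types false

universe u

open CategoryTheory CategoryTheory.Limits AlgebraicGeometry HomogeneousLocalization
open Groth.Chow

noncomputable section

namespace Groth.BendBreak

variable {R : Type u} [CommRing R] {n : ℕ}

local notation "ℙg" => CohB1.polyGrading n R

/-- The constants of a chart. -/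
def cst (i : Fin (n + 1)) : R →+* Away ℙg (MvPolynomial.X i : MvPolynomial (Fin (n + 1)) R) :=
  (fromZeroRingHom ℙg _).comp (algebraMap R (CohB1.polyGrading n R 0))

/-- The coordinates on a chart. -/
def crd (i l : Fin (n + 1)) : Away ℙg (MvPolynomial.X i : MvPolynomial (Fin (n + 1)) R) :=
  Away.mk ℙg (ToPn.X_mem i) 1 (MvPolynomial.X l) (by simpa using ToPn.X_mem l)

theorem cst_eq (i : Fin (n + 1)) (r : R) :
    cst i r = Away.mk ℙg (ToPn.X_mem i) 0 (MvPolynomial.C r)
      (by simpa using MvPolynomial.isHomogeneous_C _ r) := by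
  apply val_injective
  rw [cst, RingHom.comp_apply, Groth.Ega2P2.val_fromZero, Away.val_mk]
  exact congrArg₂ Localization.mk rfl (Subtype.ext (pow_zero _).symm)

theorem crd_self (i : Fin (n + 1)) : crd (R := R) i i = 1 := by
  apply val_injective
  rw [crd, Away.val_mk, val_one]
  simp only [pow_one]
  exact Localization.mk_self (⟨MvPolynomial.X i, ⟨1, pow_one _⟩⟩ :
    Submonoid.powers (MvPolynomial.X i : MvPolynomial (Fin (n + 1)) R))

theorem mk_eq_eval (i : Fin (n + 1)) (d : ℕ) (a : MvPolynomial (Fin (n + 1)) R)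
    (ha : a ∈ ℙg (d • 1)) :
    Away.mk ℙg (ToPn.X_mem i) d a ha = MvPolynomial.eval₂ (cst i) (crd i) a := by
  apply val_injective
  let L := Localization.Away (MvPolynomial.X i : MvPolynomial (Fin (n + 1)) R)
  let am : MvPolynomial (Fin (n + 1)) R →+* L := algebraMap _ L
  let v : Away ℙg (MvPolynomial.X i : MvPolynomial (Fin (n + 1)) R) →+* L := algebraMap _ L
  have hv : ∀ x, v x = x.val := fun x => rfl
  rw [← hv (MvPolynomial.eval₂ (cst i) (crd i) a), MvPolynomial.eval₂_comp_left v, Away.val_mk,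
    Localization.mk_eq_mk', IsLocalization.mk'_eq_iff_eq_mul]
  change am a = _ * am (MvPolynomial.X i ^ d)
  have hc : v.comp (cst i) = am.comp MvPolynomial.C := by
    refine RingHom.ext fun r => ?_
    rw [RingHom.comp_apply, RingHom.comp_apply, hv, cst_eq, Away.val_mk, Localization.mk_eq_mk',
      IsLocalization.mk'_eq_iff_eq_mul]
    simp [am, L]
  have hX : ∀ l, am (MvPolynomial.X l) = am (MvPolynomial.X i) * (v ∘ crd i) l := fun l => by
    rw [mul_comm, Function.comp_apply, hv, crd, Away.val_mk, Localization.mk_eq_mk', eq_comm]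
    simp only [pow_one]
    exact IsLocalization.mk'_spec L _ _
  have h1 : am a = MvPolynomial.eval₂ (am.comp MvPolynomial.C) (fun l => am (MvPolynomial.X l)) a := by
    conv_lhs => rw [← MvPolynomial.eval₂_eta a]
    rw [MvPolynomial.eval₂_comp_left am]
    rfl
  have ha' : a ∈ ℙg d := by simpa using ha
  rw [h1, funext hX, ToPn.eval₂_scale _ _ _ ha', map_pow, hc, mul_comm]

theorem eq_chart (i : Fin (n + 1)) {S : Type u} [CommRing S]
    (α : Away ℙg (MvPolynomial.X i : MvPolynomial (Fin (n + 1)) R) →+* S) :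
    α = ToPn.chart i (α.comp (cst i)) (α ∘ crd i) (by simp [crd_self]) := by
  refine RingHom.ext fun z => ?_
  obtain ⟨d, a, ha, rfl⟩ := Away.mk_surjective ℙg (ToPn.X_mem i) z
  rw [ToPn.chart_mk, mk_eq_eval, MvPolynomial.eval₂_comp_left α]

theorem chart_cst (i : Fin (n + 1)) {S : Type u} [CommRing S] (f : R →+* S) (b : Fin (n + 1) → S)
    (hb : b i = 1) : (ToPn.chart i f b hb).comp (cst i) = f := by
  refine RingHom.ext fun r => ?_
  rw [RingHom.comp_apply, cst_eq, ToPn.chart_mk, MvPolynomial.eval₂_C]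

/-- The point with coordinates `b` on the chart `i`. -/
def pt (i : Fin (n + 1)) {S : CommRingCat.{u}} (f : R →+* S) (b : Fin (n + 1) → S) (hb : b i = 1) :
    Spec S ⟶ CohB1.ProjSpace n R :=
  Spec.map (CommRingCat.ofHom (ToPn.chart i f b hb)) ≫ Proj.awayι ℙg _ (ToPn.X_mem i) one_pos

theorem pt_toSpec (i : Fin (n + 1)) {S : CommRingCat.{u}} (f : R →+* S) (b : Fin (n + 1) → S)
    (hb : b i = 1) :
    pt i f b hb ≫ CohB1.ProjSpace.toSpec n R = Spec.map (CommRingCat.ofHom f) := by
  have h0 : Proj.awayι ℙg (MvPolynomial.X i : MvPolynomial (Fin (n + 1)) R) (ToPn.X_mem i) one_pos ≫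
      Proj.toSpecZero ℙg = Spec.map (CommRingCat.ofHom (fromZeroRingHom ℙg _)) :=
    Proj.awayι_toSpecZero _ _ _ _
  rw [pt, CohB1.ProjSpace.toSpec, Category.assoc]
  refine (congrArg (fun t => _ ≫ t) ((Category.assoc _ _ _).symm.trans (congrArg (· ≫ _) h0))).trans ?_
  rw [← Spec.map_comp, ← Spec.map_comp, ← CommRingCat.ofHom_comp, ← CommRingCat.ofHom_comp]
  exact congrArg (fun g => Spec.map (CommRingCat.ofHom g)) (chart_cst i f b hb)

theorem comp_pt (i : Fin (n + 1)) {S T : CommRingCat.{u}} (g : S ⟶ T) (f : R →+* S)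
    (b : Fin (n + 1) → S) (hb : b i = 1) :
    Spec.map g ≫ pt i f b hb = pt i (g.hom.comp f) (g.hom ∘ b) (by simp [hb]) := by
  rw [pt, pt, ← Category.assoc, ← Spec.map_comp]
  congr 2
  exact CommRingCat.hom_ext (ToPn.comp_chart i f b hb g.hom)

theorem pt_change {i j : Fin (n + 1)} {S : CommRingCat.{u}} (f : R →+* S)
    (b b' : Fin (n + 1) → S) (hb : b i = 1) (hb' : b' j = 1) (h : ∀ l, b l = b j * b' l) :
    pt i f b hb = pt j f b' hb' :=
  ToPn.chart_change f b b' hb hb' h

/-- A field-valued point has coordinates on some chart. -/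
theorem exists_pt {K : Type u} [Field K] (ψ : Spec (CommRingCat.of K) ⟶ CohB1.ProjSpace n R) :
    ∃ (i : Fin (n + 1)) (f : R →+* K) (b : Fin (n + 1) → K) (hb : b i = 1), ψ = pt i f b hb := by
  let ψ' : Spec (CommRingCat.of K) ⟶ Proj ℙg := ψ
  let pnt := ψ' (IsLocalRing.closedPoint K)
  have hsup := Proj.iSup_basicOpen_eq_top (CohB1.polyGrading n R)
    (fun l : Fin (n + 1) => (MvPolynomial.X l : MvPolynomial (Fin (n + 1)) R))
    ToPn.irrelevant_le_span_X
  obtain ⟨i, hi⟩ := TopologicalSpace.Opens.mem_iSup.1 (hsup.ge (trivial : pnt ∈ ⊤))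
  have hrange : Set.range ψ' ⊆ Set.range (Proj.awayι ℙg _ (ToPn.X_mem i) one_pos) := by
    rintro _ ⟨z, rfl⟩
    rw [Subsingleton.elim z (IsLocalRing.closedPoint K), ← Scheme.Hom.coe_opensRange,
      Proj.opensRange_awayι]
    exact hi
  obtain ⟨α, hα⟩ := Spec.map_surjective
    (IsOpenImmersion.lift (Proj.awayι ℙg _ (ToPn.X_mem i) one_pos) ψ' hrange)
  refine ⟨i, α.hom.comp (cst i), α.hom ∘ crd i, by simp [crd_self], ?_⟩
  rw [pt, ← eq_chart]
  exact ((congrArg (· ≫ _) hα).trans (IsOpenImmersion.lift_fac _ _ _)).symm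

end Groth.BendBreak
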