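import Groth.Agent.BendBreak.Lines
import Groth.Agent.ArSurfBasics.Factor
import Mathlib.AlgebraicGeometry.Geometrically.Connected

/-!
# Rational curves from the indeterminacy of rational maps on surfaces
-/

set_option autoImplicit false
set_option backward.isDefEq.respectTransparency.types false

universe u

open CategoryTheory CategoryTheory.Limits AlgebraicGeometry IsLocalRing

noncomputable section

namespace Groth.BendBreak

theorem isConnected_subset_singleton {X : Type u} [TopologicalSpace X] {s : Set X} (hs : _root_.IsConnected s)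
    {ι : Type} [Finite ι] (A : ι → Set X) (hA : ∀ i, IsClosed (A i)) (hsA : s = ⋃ i, A i) {p : X}
    (hp : IsClosed ({p} : Set X)) (hps : p ∈ s) (h : ∀ i, p ∈ A i → A i ⊆ {p}) : s ⊆ {p} := by
  classical
  let B : Set X := ⋃ i ∈ {i | p ∉ A i}, A i
  have hB : IsClosed B := (Set.toFinite _).isClosed_biUnion fun i _ => hA i
  have hsplit : s ⊆ {p} ∪ B := fun z hz => by
    obtain ⟨i, hi⟩ := Set.mem_iUnion.1 (hsA.le hz)
    by_cases hpi : p ∈ A i
    · exact Or.inl (h i hpi hi)
    · exact Or.inr (Set.mem_biUnion hpi hi)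
  have hdisj : s ∩ ({p} ∩ B) = ∅ := by
    refine Set.eq_empty_iff_forall_notMem.2 fun z ⟨_, hz, hzB⟩ => ?_
    obtain ⟨i, hi, hzi⟩ := Set.mem_iUnion₂.1 hzB
    exact hi (Set.mem_singleton_iff.1 hz ▸ hzi)
  rcases isPreconnected_closed_iff.1 hs.isPreconnected {p} B hp hB hsplit with h'
  intro z hz
  by_contra hzp
  have hzB : z ∈ B := (hsplit hz).resolve_left hzp
  have := h' ⟨p, hps, rfl⟩ ⟨z, hz, hzB⟩
  rw [hdisj] at this
  exact Set.not_nonempty_empty this

variable {k : Type u} [Field k] [IsAlgClosed k] {S X : Scheme.{u}} [IsIntegral S] [IsLocallyNoetherian S]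

/-- **Rational curves from indeterminacy.** If a rational map from a regular surface to a projective
scheme does not extend to a closed point `x`, then the indeterminacy at `x` is resolved by a sequence of
point blow-ups, and through every point of the image of the exceptional fibre passes a rational
curve. -/
theorem exists_rational_curves (q : S ⟶ Spec (CommRingCat.of k)) [LocallyOfFiniteType q] [IsSeparated q]
    (hreg : ∀ s : S, IsRegularLocalRing (S.presheaf.stalk s))
    (sX : X ⟶ Spec (CommRingCat.of k))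
    {n : ℕ} (ιX : X ⟶ CohB1.ProjSpace n k) [IsClosedImmersion ιX]
    (hsX : ιX ≫ CohB1.ProjSpace.toSpec n k = sX)
    (U : S.Opens) (hU : genericPoint S ∈ U) (φ₀ : (U : Scheme.{u}) ⟶ X) (hφ₀ : φ₀ ≫ sX = U.ι ≫ q)
    {x : S} (hx : IsClosed ({x} : Set S)) (hdim : ringKrullDim (S.presheaf.stalk x) = 2)
    (hno : ¬ ExtendsAt q sX (U.fromSpecStalkOfMem (genericPoint S) hU ≫ φ₀) x) :
    ∃ (V : S.Opens) (W : Scheme.{u}) (g : W ⟶ V) (φ : W ⟶ X) (_ : IsProper g) (hxV : x ∈ V),
      IsIntegral W ∧ φ ≫ sX = g ≫ V.ι ≫ q ∧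
      IsIso (g ∣_ (V.ι ⁻¹ᵁ ⟨({x} : Set S)ᶜ, hx.isOpen_compl⟩)) ∧
      (∀ (T : Scheme.{u}) (a : T ⟶ W) (b : T ⟶ U), a ≫ g ≫ V.ι = b ≫ U.ι → a ≫ φ = b ≫ φ₀) ∧
      (g ⁻¹' {⟨x, hxV⟩}).Nonempty ∧
      ∀ p ∈ φ '' (g ⁻¹' {⟨x, hxV⟩}), IsClosed ({p} : Set X) → ∃ j : CohB1.ProjSpace 1 k ⟶ X,
        j ≫ sX = CohB1.ProjSpace.toSpec 1 k ∧ p ∈ Set.range j ∧ ¬ ∃ z : X, Set.range j ⊆ {z} := by
  haveI := hreg x
  haveI := Groth.Variety2.isProper_projSpace_toSpec n k
  haveI hsXp : IsProper sX := hsX ▸ inferInstance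
  haveI : X.IsSeparated := ⟨by rw [← terminal.comp_from sX]; infer_instance⟩
  obtain ⟨V, W, g, φ, hxV, hVaff, hg, hWint, hgp, hφ, hiso, hcompat⟩ :=
    exists_model q sX ιX hsX U ⟨_, hU⟩ φ₀ hφ₀ hx hdim
  let V' : Scheme.{u} := V
  haveI : Nonempty V' := ⟨⟨x, hxV⟩⟩
  haveI : IsIntegral V' := isIntegral_of_isOpenImmersion V.ι
  haveI : IsLocallyNoetherian V' := inferInstanceAs (IsLocallyNoetherian (V : Scheme.{u}))
  haveI : IsAffine V' := hVaff
  haveI : AlgebraicGeometry.IsNoetherian V' := {}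
  let P : V'.Opens := V.ι ⁻¹ᵁ ⟨({x} : Set S)ᶜ, hx.isOpen_compl⟩
  have hgenx : genericPoint S ≠ x := fun h => by
    have hf : IsField (S.presheaf.stalk (genericPoint S)) := Field.toIsField S.functionField
    have h0 := ringKrullDim_eq_zero_of_isField hf
    rw [h, hdim] at h0
    exact absurd h0 (by norm_num)
  have hgV : genericPoint S ∈ V := (genericPoint_specializes x).mem_open V.2 hxV
  have hPne : (P : Set V').Nonempty := ⟨⟨genericPoint S, hgV⟩, hgenx⟩
  have hregV : ∀ v : V', IsRegularLocalRing (V'.presheaf.stalk v) := fun v => by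
    haveI := hreg (V.ι v)
    exact IsRegularLocalRing.of_ringEquiv (asIso (V.ι.stalkMap v)).commRingCatIsoToRingEquiv
  haveI := Groth.ArSurfBasics.Factorization.geometricallyConnected g hiso hPne hregV
  let xV : V' := ⟨x, hxV⟩
  have hfib : _root_.IsConnected (g ⁻¹' {xV}) := g.isConnected_preimage_singleton xV
  have hclxV : IsClosed ({xV} : Set V') := by
    convert hx.preimage V.ι.continuous
    ext v
    show v = xV ↔ V.ι v = x
    exact ⟨fun e => by rw [e]; rfl, fun e => Subtype.ext e⟩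
  refine ⟨V, W, g, φ, hgp, hxV, hWint, hφ, hiso, hcompat, hfib.nonempty, fun p hp hpcl => ?_⟩
  obtain ⟨I, hI, j, hjk, hjx⟩ := exists_lines hg (V.ι ≫ q) xV hclxV
  by_contra hnone
  push Not at hnone
  have hsingle : φ '' (g ⁻¹' {xV}) ⊆ {p} := by
    refine isConnected_subset_singleton (hfib.image φ φ.continuous.continuousOn)
      (fun i => Set.range (j i ≫ φ)) (fun i => ?_) ?_ hpcl hp fun i hi => ?_
    · haveI := Groth.Variety2.isProper_projSpace_toSpec 1 k
      haveI : IsProper ((j i ≫ φ) ≫ sX) := by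
        rw [Category.assoc, hφ, hjk]; infer_instance
      haveI : IsProper (j i ≫ φ) := IsProper.of_comp (j i ≫ φ) sX
      exact (j i ≫ φ).isClosedMap.isClosed_range
    · rw [← hjx, Set.image_iUnion]
      refine Set.iUnion_congr fun i => ?_
      ext z; simp
    · obtain ⟨z, hz⟩ := hnone (j i ≫ φ) (by rw [Category.assoc, hφ, hjk]) hi
      have : p = z := hz hi
      rw [this]; exact hz
  haveI : LocallyOfFiniteType (g ≫ V.ι ≫ q) := inferInstance
  haveI : IsLocallyNoetherian W := LocallyOfFiniteType.isLocallyNoetherian g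
  haveI : CompactSpace W := QuasiCompact.compactSpace_of_compactSpace g
  haveI : AlgebraicGeometry.IsNoetherian W := {}
  haveI hPiso : IsIso (g ∣_ P) := hiso
  obtain ⟨k', ⟨hk', hk'q⟩, -⟩ := Groth.ArSurfBasics.existsUnique_factor (V.ι ≫ q) sX
    (Groth.ArSurfBasics.Factorization.isIntegrallyClosed_stalk hregV) g φ hφ.symm hPne fun w hw => by
    have : g w = xV := by
      by_contra hne
      exact hw (fun e => hne (Subtype.ext e))
    have hwp : φ w = p := hsingle ⟨w, this, rfl⟩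
    rw [hwp]; exact hpcl
  refine hno ⟨V.fromSpecStalkOfMem x hxV ≫ k', ?_, ?_⟩
  · rw [Category.assoc, hk'q, ← Category.assoc, Scheme.Opens.fromSpecStalkOfMem_ι]
  · let T : S.Opens := U ⊓ (V ⊓ ⟨({x} : Set S)ᶜ, hx.isOpen_compl⟩)
    have hgT : genericPoint S ∈ T := ⟨hU, hgV, hgenx⟩
    let bT : (T : Scheme.{u}) ⟶ U := S.homOfLE inf_le_left
    let vT : (T : Scheme.{u}) ⟶ V := S.homOfLE (inf_le_right.trans inf_le_left)
    have hrange : Set.range vT ⊆ Set.range P.ι := by
      rintro _ ⟨t, rfl⟩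
      rw [Scheme.Opens.range_ι]
      show V.ι (vT t) ≠ x
      rw [← Scheme.Hom.comp_apply, Scheme.homOfLE_ι]
      exact t.2.2.2
    let a : (T : Scheme.{u}) ⟶ W := IsOpenImmersion.lift P.ι vT hrange ≫ inv (g ∣_ P) ≫ (g ⁻¹ᵁ P).ι
    have ha : a ≫ g = vT := by
      simp only [a, Category.assoc]
      rw [← morphismRestrict_ι, IsIso.inv_hom_id_assoc, IsOpenImmersion.lift_fac]
    have h1 : a ≫ φ = bT ≫ φ₀ := hcompat T a bT (by
      rw [reassoc_of% ha, Scheme.homOfLE_ι, Scheme.homOfLE_ι])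
    rw [← hk', ← Category.assoc, ha] at h1
    have h2 : toGen x ≫ V.fromSpecStalkOfMem x hxV = T.fromSpecStalkOfMem _ hgT ≫ vT := by
      rw [← cancel_mono V.ι, Category.assoc, Category.assoc, Scheme.Opens.fromSpecStalkOfMem_ι,
        Scheme.homOfLE_ι, Scheme.Opens.fromSpecStalkOfMem_ι, toGen_fromSpecStalk]
    rw [← Category.assoc, h2, Category.assoc, h1, ← Category.assoc]
    congr 1
    rw [← cancel_mono U.ι, Category.assoc, Scheme.homOfLE_ι, Scheme.Opens.fromSpecStalkOfMem_ι,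
      Scheme.Opens.fromSpecStalkOfMem_ι]

end Groth.BendBreak
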