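import Mathlib.AlgebraicGeometry.Birational.RationalMap
import Mathlib.AlgebraicGeometry.Morphisms.Proper
import Mathlib.AlgebraicGeometry.ValuativeCriterion

/-!
# Rational maps extend when they extend to all local rings
-/

set_option autoImplicit false
set_option backward.isDefEq.respectTransparency.types false

universe u

open CategoryTheory CategoryTheory.Limits AlgebraicGeometry

noncomputable section

namespace Groth.BendBreak

variable {S W Y : Scheme.{u}} [IsIntegral W] (q : W ⟶ S) (sY : Y ⟶ S)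

/-- The inclusion of the generic point of the spectrum of a local ring. -/
def toGen (w : W) : Spec W.functionField ⟶ Spec (W.presheaf.stalk w) :=
  Spec.map (W.presheaf.stalkSpecializes (genericPoint_specializes w))

lemma toGen_fromSpecStalk (w : W) :
    toGen w ≫ W.fromSpecStalk w = W.fromSpecStalk (genericPoint W) :=
  Scheme.SpecMap_stalkSpecializes_fromSpecStalk _

/-- `η` extends to the local ring at `w`. -/
def ExtendsAt (η : Spec W.functionField ⟶ Y) (w : W) : Prop :=
  ∃ g : Spec (W.presheaf.stalk w) ⟶ Y, g ≫ sY = W.fromSpecStalk w ≫ q ∧ toGen w ≫ g = η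

theorem toGen_fromSpecStalkOfMem (f : W.PartialMap Y) {w : W} (hw : w ∈ f.domain) :
    f.fromFunctionField = toGen w ≫ f.fromSpecStalkOfMem hw := by
  unfold Scheme.PartialMap.fromFunctionField Scheme.PartialMap.fromSpecStalkOfMem
  rw [← Category.assoc]
  congr 1
  rw [← cancel_mono f.domain.ι, Category.assoc, Scheme.Opens.fromSpecStalkOfMem_ι,
    Scheme.Opens.fromSpecStalkOfMem_ι, toGen_fromSpecStalk]

theorem ExtendsAt.exists_partialMap [LocallyOfFiniteType sY] {η : Spec W.functionField ⟶ Y} {w : W}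
    (h : ExtendsAt q sY η w) :
    ∃ f : W.PartialMap Y, w ∈ f.domain ∧ f.fromFunctionField = η ∧
      f.hom ≫ sY = f.domain.ι ≫ q := by
  obtain ⟨g, hg, hgη⟩ := h
  refine ⟨.ofFromSpecStalk q sY g hg, Scheme.PartialMap.mem_domain_ofFromSpecStalk q sY g hg, ?_,
    Scheme.PartialMap.ofFromSpecStalk_comp q sY g hg⟩
  rw [toGen_fromSpecStalkOfMem _ (Scheme.PartialMap.mem_domain_ofFromSpecStalk q sY g hg),
    Scheme.PartialMap.fromSpecStalkOfMem_ofFromSpecStalk, hgη]

/-- A morphism is determined by its restriction to the generic point. -/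
theorem hom_ext [Y.IsSeparated] {f g : W ⟶ Y}
    (h : W.fromSpecStalk (genericPoint W) ≫ f = W.fromSpecStalk (genericPoint W) ≫ g) : f = g := by
  haveI : IsDominant (W.fromSpecStalk (genericPoint W)) := ⟨by
    rw [DenseRange, dense_iff_closure_eq, ← Set.univ_subset_iff, ← (genericPoint_spec W).def]
    refine closure_mono (Set.singleton_subset_iff.2 ?_)
    exact ⟨IsLocalRing.closedPoint _, Scheme.fromSpecStalk_closedPoint⟩⟩
  exact ext_of_isDominant (ι := W.fromSpecStalk (genericPoint W)) h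

theorem extendsAt_of_hom (φ : W ⟶ Y) (hφ : φ ≫ sY = q) (w : W) :
    ExtendsAt q sY (W.fromSpecStalk (genericPoint W) ≫ φ) w :=
  ⟨W.fromSpecStalk w ≫ φ, by rw [Category.assoc, hφ], by rw [← Category.assoc, toGen_fromSpecStalk]⟩

theorem ExtendsAt.of_specializes {η : Spec W.functionField ⟶ Y} {w w' : W} (hw : w ⤳ w')
    (h : ExtendsAt q sY η w') : ExtendsAt q sY η w := by
  obtain ⟨g, hg, hgη⟩ := h
  refine ⟨Spec.map (W.presheaf.stalkSpecializes hw) ≫ g, ?_, ?_⟩
  · rw [Category.assoc, hg, ← Category.assoc, Scheme.SpecMap_stalkSpecializes_fromSpecStalk]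
  · rw [← hgη, ← Category.assoc, toGen, ← Spec.map_comp, TopCat.Presheaf.stalkSpecializes_comp]
    rfl

/-- If a rational map extends to every local ring, then it is a morphism. -/
theorem exists_hom [LocallyOfFiniteType sY] [Y.IsSeparated] [S.IsSeparated] {η : Spec W.functionField ⟶ Y}
    (h : ∀ w : W, ExtendsAt q sY η w) :
    ∃ φ : W ⟶ Y, φ ≫ sY = q ∧ W.fromSpecStalk (genericPoint W) ≫ φ = η := by
  obtain ⟨f₀, -, hf₀, hf₀'⟩ := (h (genericPoint W)).exists_partialMap q sY
  let r : W ⤏ Y := f₀.toRationalMap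
  have hdom : r.domain = ⊤ := top_le_iff.1 fun w _ => by
    obtain ⟨f, hw, hf, -⟩ := (h w).exists_partialMap q sY
    exact Scheme.RationalMap.mem_domain.2 ⟨f, hw, Scheme.RationalMap.eq_of_fromFunctionField_eq _ _
      (hf.trans hf₀.symm)⟩
  let F := r.toPartialMap
  have hF : F.domain = ⊤ := hdom
  let φ : W ⟶ Y := W.topIso.inv ≫ (W.isoOfEq hF).inv ≫ F.hom
  have hι : W.topIso.inv ≫ (W.isoOfEq hF).inv ≫ F.domain.ι = 𝟙 W := by
    rw [Scheme.isoOfEq_inv_ι, ← Scheme.topIso_hom, Iso.inv_hom_id]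
  have hFη : F.fromFunctionField = η := by
    refine Eq.trans ?_ hf₀
    exact congrArg Scheme.RationalMap.fromFunctionField (r.toRationalMap_toPartialMap)
  have hφ : W.fromSpecStalk (genericPoint W) ≫ φ = η := by
    rw [← hFη]
    change _ = (F.domain.fromSpecStalkOfMem _ _) ≫ F.hom
    rw [show φ = (W.topIso.inv ≫ (W.isoOfEq hF).inv) ≫ F.hom from rfl, ← Category.assoc]
    congr 1
    rw [← cancel_mono F.domain.ι]
    simp only [Category.assoc, hι, Category.comp_id, Scheme.Opens.fromSpecStalkOfMem_ι]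
  refine ⟨φ, hom_ext ?_, hφ⟩
  obtain ⟨g, hg, hgη⟩ := h (genericPoint W)
  rw [← Category.assoc, hφ, ← hgη, Category.assoc, hg, ← Category.assoc, toGen_fromSpecStalk]

end Groth.BendBreak
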