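import Groth.Agent.BendBreak.Model
import Groth.Agent.ArSurfBasics.ExceptionalLine
import Groth.Agent.Curves1.RR.GenusZeroP1
import Mathlib.AlgebraicGeometry.AlgClosed.Basic

/-!
# Fibres of point blow-up sequences are covered by projective lines
-/

set_option autoImplicit false
set_option backward.isDefEq.respectTransparency.types false

universe u

open CategoryTheory CategoryTheory.Limits AlgebraicGeometry IsLocalRing

noncomputable section

namespace Groth.BendBreak

variable (k : Type u) [Field k]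

local notation "ℙ¹" => CohB1.ProjSpace 1 k

instance isIntegral_line : IsIntegral ℙ¹ := Groth.Curves1.RR.isIntegral_projSpace k 1

theorem preValuationRing_line (t : ℙ¹) : PreValuationRing ((ℙ¹).presheaf.stalk t) := by
  haveI := Groth.Misc15.P1Stalk.valuationRing_stalk_P1 k ((Groth.PnCoh.overIso 1 k).hom t)
  exact Function.Surjective.preValuationRing
    (f := ((Groth.PnCoh.overIso 1 k).hom.stalkMap t).hom.toMonoidWithZeroHom.toMulHom)
    (ConcreteCategory.bijective_of_isIso ((Groth.PnCoh.overIso 1 k).hom.stalkMap t)).2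

variable {k}

/-- A rational map from an integral scheme to a proper scheme extends at points with valuation local
rings. -/
theorem extendsAt_of_preValuationRing {S W Y : Scheme.{u}} [IsIntegral W] (q : W ⟶ S) (sY : Y ⟶ S)
    [IsProper sY] (η : Spec W.functionField ⟶ Y)
    (hη : η ≫ sY = W.fromSpecStalk (genericPoint W) ≫ q) (w : W)
    [PreValuationRing (W.presheaf.stalk w)] : ExtendsAt q sY η w := by
  haveI hdom : IsDomain (W.presheaf.stalk w) := inferInstance
  haveI : ValuationRing (W.presheaf.stalk w) := {}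
  have hex : ValuativeCriterion.Existence sY := by
    have : UniversallyClosed sY := inferInstance
    rw [UniversallyClosed.eq_valuativeCriterion] at this
    exact this.1
  let sq : ValuativeCommSq sY :=
    { R := W.presheaf.stalk w
      domain := hdom
      K := W.functionField
      i₁ := η
      i₂ := W.fromSpecStalk w ≫ q
      commSq := ⟨by
        refine hη.trans ?_
        rw [← toGen_fromSpecStalk w, Category.assoc]
        rfl⟩ }
  exact ⟨(hex sq).exists_lift.some.l, (hex sq).exists_lift.some.fac_right,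
    (hex sq).exists_lift.some.fac_left⟩

/-- Lines lift along proper birational morphisms. -/
theorem exists_lift_line {Y Z : Scheme.{u}} [Y.IsSeparated] [Z.IsSeparated] (b : Y ⟶ Z) [IsProper b]
    (O : Z.Opens) [IsIso (b ∣_ O)] (j : ℙ¹ ⟶ Z) (hj : genericPoint ℙ¹ ∈ j ⁻¹ᵁ O) :
    ∃ j' : ℙ¹ ⟶ Y, j' ≫ b = j := by
  let η : Spec (ℙ¹).functionField ⟶ Y :=
    (j ⁻¹ᵁ O).fromSpecStalkOfMem _ hj ≫ j ∣_ O ≫ inv (b ∣_ O) ≫ (b ⁻¹ᵁ O).ι
  have hη : η ≫ b = (ℙ¹).fromSpecStalk (genericPoint ℙ¹) ≫ j := by
    simp only [η, Category.assoc]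
    rw [← morphismRestrict_ι, IsIso.inv_hom_id_assoc, morphismRestrict_ι, ← Category.assoc,
      Scheme.Opens.fromSpecStalkOfMem_ι]
  obtain ⟨j', hj', -⟩ := exists_hom j b (η := η) fun t =>
    haveI := preValuationRing_line k t
    extendsAt_of_preValuationRing j b η hη t
  exact ⟨j', hj'⟩

variable [IsAlgClosed k]

/-- The fibres of a sequence of point blow-ups over a closed point are unions of finitely many
projective lines (some of which may be constant). -/
theorem exists_lines {W V : Scheme.{u}} {g : W ⟶ V} (hg : Models.IsContractionSeq g) :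
    ∀ (qV : V ⟶ Spec (CommRingCat.of k)) [LocallyOfFiniteType qV] [IsSeparated qV] (x : V),
      IsClosed ({x} : Set V) → ∃ (ι : Type) (_ : Finite ι) (j : ι → (ℙ¹ ⟶ W)),
        (∀ i, j i ≫ g ≫ qV = CohB1.ProjSpace.toSpec 1 k) ∧ ⋃ i, Set.range (j i) = g ⁻¹' {x} := by
  induction hg with
  | @iso Y Z e =>
    intro qV _ _ x hx
    refine ⟨Unit, inferInstance,
      fun _ => CohB1.ProjSpace.toSpec 1 k ≫ pointOfClosedPoint qV x hx ≫ e.inv, fun _ => ?_, ?_⟩
    · rw [Category.assoc, Category.assoc, Iso.inv_hom_id_assoc, pointOfClosedPoint_comp, Category.comp_id]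
    · ext z
      simp only [Set.mem_iUnion, exists_const, Set.mem_range, Scheme.Hom.comp_apply,
        pointOfClosedPoint_apply, Set.mem_preimage, Set.mem_singleton_iff]
      refine ⟨fun ht => ?_, fun hz => ?_⟩
      · rw [← ht, ← Scheme.Hom.comp_apply, Iso.inv_hom_id]; rfl
      · rw [← hz, ← Scheme.Hom.comp_apply, Iso.hom_inv_id]; rfl
  | @step Y Z V E ι₀ b r hι hE hb hr ih =>
    intro qV _ _ x hx
    obtain ⟨hN, hbp, y, hy, hEy, hreg, hdim, hbl⟩ := hb
    haveI := hN
    haveI := hbp
    haveI := hreg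
    haveI hrp : IsProper r := (isIntegral_seq hr).1
    haveI : LocallyOfFiniteType (r ≫ qV) := inferInstance
    haveI : IsSeparated (r ≫ qV) := inferInstance
    haveI : Z.IsSeparated := ⟨by rw [← terminal.comp_from (r ≫ qV)]; infer_instance⟩
    haveI : Y.IsSeparated := ⟨by rw [← terminal.comp_from b]; infer_instance⟩
    obtain ⟨I, hI, j, hjk, hjx⟩ := ih qV x hx
    let O : Z.Opens := ⟨({y} : Set Z)ᶜ, hy.isOpen_compl⟩
    haveI hiso : IsIso (b ∣_ O) := Groth.BlowUpBasics.isIso_morphismRestrict hbl O (by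
      rw [Scheme.IdealSheafData.coe_support_vanishingIdeal]
      exact Set.disjoint_singleton_left.2 fun h => h rfl)
    have hinj : ∀ z z', b z ≠ y → b z = b z' → z = z' := fun z z' hz hzz' =>
      congrArg Subtype.val ((b ∣_ O).homeomorph.injective (a₁ := ⟨z, hz⟩)
        (a₂ := ⟨z', fun e => hz (hzz'.trans e)⟩) (Subtype.ext (by simpa using hzz')))
    have hlift : ∀ i : {i : I // ¬ Set.range (j i) ⊆ {y}}, ∃ j' : ℙ¹ ⟶ Y, j' ≫ b = j i.1 := fun i => by
      refine exists_lift_line b O (j i.1) ?_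
      obtain ⟨_, ⟨t, rfl⟩, ht⟩ := Set.not_subset.1 i.2
      exact ((genericPoint_spec ℙ¹).mem_open_set_iff (j i.1 ⁻¹ᵁ O).2).2 ⟨t, trivial, ht⟩
    choose j' hj' using hlift
    obtain ⟨jE, -, hjE, hjErange, -, -⟩ :=
      Groth.ArSurfBasics.ExcLineGlobal.exists_excLine b hy hbl hdim
    let κ := ResidueField (Z.presheaf.stalk y)
    obtain ⟨ψ, hψ⟩ := Spec.map_surjective (Groth.ArSurfBasics.ExcLineGlobal.resPoint y ≫ r ≫ qV)
    haveI : IsClosedImmersion (Z.fromSpecResidueField y) := isClosed_singleton_iff_isClosedImmersion.1 hy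
    haveI : IsIso ψ := by
      have h1 : Spec.map ψ = Spec.map (residueFieldIsoBase (r ≫ qV) y hy).inv :=
        hψ.trans (SpecMap_residueFieldIsoBase_inv _ _ _).symm
      rw [Spec.map_injective h1]
      infer_instance
    letI : Algebra k κ := ψ.hom.toAlgebra
    have hP := Groth.PnCoh.isPullback_toBasePn 1 k κ
    have hψ' : CommRingCat.ofHom (algebraMap k κ) = ψ := rfl
    haveI : IsIso (Spec.map (CommRingCat.ofHom (algebraMap k κ))) := by rw [hψ']; infer_instance
    haveI : IsIso (Groth.PnCoh.toBasePn 1 k κ) := hP.isIso_fst_of_isIso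
    let e : ℙ¹ ⟶ Y := inv (Groth.PnCoh.toBasePn 1 k κ) ≫ jE
    have he : e ≫ (b ≫ r) ≫ qV = CohB1.ProjSpace.toSpec 1 k := by
      simp only [e, Category.assoc]
      rw [IsIso.inv_comp_eq, hP.w, hψ', reassoc_of% hjE]
      exact congrArg (_ ≫ ·) hψ.symm
    have herange : Set.range e = b ⁻¹' {y} := by
      rw [← hjErange]
      refine Set.Subset.antisymm (Set.range_subset_iff.2 fun t => ?_) (Set.range_subset_iff.2 fun t => ?_)
      · exact ⟨inv (Groth.PnCoh.toBasePn 1 k κ) t, rfl⟩
      · refine ⟨Groth.PnCoh.toBasePn 1 k κ t, ?_⟩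
        show e (Groth.PnCoh.toBasePn 1 k κ t) = _
        rw [← Scheme.Hom.comp_apply, IsIso.hom_inv_id_assoc]
    classical
    refine ⟨{i : I // ¬ Set.range (j i) ⊆ {y}} ⊕ {_u : Unit // r y = x}, inferInstance,
      Sum.elim j' (fun _ => e), ?_, ?_⟩
    · rintro (i | i)
      · rw [Sum.elim_inl, Category.assoc, reassoc_of% (hj' i), hjk]
      · rw [Sum.elim_inr, he]
    · ext z
      simp only [Set.mem_iUnion, Set.mem_preimage, Set.mem_singleton_iff, Scheme.Hom.comp_apply]
      constructor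
      · rintro ⟨i | i, hz⟩
        · obtain ⟨t, rfl⟩ := hz
          have ht : j i.1 t ∈ r ⁻¹' {x} := hjx.le (Set.mem_iUnion.2 ⟨i.1, t, rfl⟩)
          rw [Sum.elim_inl, ← Scheme.Hom.comp_apply (j' i) b, hj']
          exact ht
        · have : b z = y := herange.le hz
          rw [this]; exact i.2
      · intro hz
        by_cases hzy : b z = y
        · exact ⟨Sum.inr ⟨(), hzy ▸ hz⟩, herange.ge hzy⟩
        · obtain ⟨i, t, ht⟩ := Set.mem_iUnion.1 (hjx.ge hz)
          have hi : ¬ Set.range (j i) ⊆ {y} := fun h => hzy (ht.symm.trans (h ⟨t, rfl⟩))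
          refine ⟨Sum.inl ⟨i, hi⟩, t, (hinj z _ hzy ?_).symm⟩
          rw [Sum.elim_inl, ← Scheme.Hom.comp_apply (j' _) b, hj', ht]

end Groth.BendBreak
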