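import Groth.Agent.BendBreak.Point
import Groth.Agent.ArSurfBasics.PointPrincipalization
import Groth.Agent.ResolveSurf.RegularRational
import Groth.Agent.Variety2.ProjBasics

/-!
# Resolving the indeterminacy of a rational map at a regular point of a surface
-/

set_option autoImplicit false
set_option backward.isDefEq.respectTransparency.types false

universe u

open CategoryTheory CategoryTheory.Limits AlgebraicGeometry IsLocalRing IntMult TopologicalSpace

noncomputable section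

namespace Groth.BendBreak

theorem isIntegral_seq {Y Z : Scheme.{u}} {g : Y ⟶ Z} (hg : Models.IsContractionSeq g) :
    IsProper g ∧ ∀ [IsIntegral Z], IsIntegral Y := by
  induction hg with
  | @iso Y Z e =>
    refine ⟨inferInstance, fun {_} => ?_⟩
    haveI : Nonempty Y := ⟨e.inv (genericPoint Z)⟩
    exact isIntegral_of_isOpenImmersion e.hom
  | @step Y Z' Z E ι b r hι hE hb hr ih =>
    haveI : IsProper b := hb.2.1
    haveI := ih.1
    refine ⟨inferInstance, fun {_} => ?_⟩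
    haveI := @ih.2 _
    exact Groth.ResolveSurf.RegularRational.isIntegral_contraction ι b hb

variable {S : Scheme.{u}} [IsIntegral S] [IsLocallyNoetherian S]

theorem exists_primitive_nhd {x : S} (hx : IsClosed ({x} : Set S))
    [IsRegularLocalRing (S.presheaf.stalk x)] (hdim : ringKrullDim (S.presheaf.stalk x) = 2)
    {ι : Type} [Fintype ι] (b : ι → S.functionField) (i : ι) (hb : b i ≠ 0) :
    ∃ (V : S.affineOpens) (hxV : x ∈ V.1) (a : ι → Γ(S, V.1)) (c : S.functionField), c ≠ 0 ∧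
      (∀ l, (S.presheaf.germ V.1 (genericPoint S) ((genericPoint_specializes x).mem_open V.1.2 hxV)).hom
        (a l) = c * b l) ∧
      ∀ (v : S) (hv : v ∈ V.1), (∀ l, v ∉ S.basicOpen (a l)) → v = x := by
  classical
  haveI := Groth.PicAux.ufd_of_isRegularLocalRing (S.presheaf.stalk x)
  obtain ⟨a', c, hc, hac, hP⟩ := exists_primitive (K := S.functionField) hdim.le b i hb
  choose Ul hUl sl hsl using fun l => S.presheaf.germ_exist (a' l)
  let O : S.Opens := ⟨⋂ l, (Ul l : Set S), isOpen_iInter_of_finite fun l => (Ul l).2⟩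
  obtain ⟨V₀, hxV₀, hV₀⟩ := Groth.Divisors.exists_affine_le x O (Set.mem_iInter.2 hUl)
  have hle : ∀ l, V₀.1 ≤ Ul l := fun l => hV₀.trans fun v hv => Set.mem_iInter.1 hv l
  let a₀ : ι → Γ(S, V₀.1) := fun l => (S.presheaf.map (homOfLE (hle l)).op).hom (sl l)
  have hgx : ∀ l, (S.presheaf.germ V₀.1 x hxV₀).hom (a₀ l) = a' l := fun l =>
    (TopCat.Presheaf.germ_res_apply S.presheaf (homOfLE (hle l)) x hxV₀ (sl l)).trans (hsl l)
  let V₀' : Scheme.{u} := V₀.1
  haveI : IsAffine V₀' := V₀.2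
  haveI : IsLocallyNoetherian V₀' := inferInstanceAs (IsLocallyNoetherian (V₀.1 : Scheme.{u}))
  haveI : AlgebraicGeometry.IsNoetherian V₀' := {}
  let Z : Set V₀' := ⋂ l, (V₀.1.ι ⁻¹' (S.basicOpen (a₀ l) : Set S))ᶜ
  have hZ : IsClosed Z := isClosed_iInter fun l =>
    ((S.basicOpen (a₀ l)).2.preimage V₀.1.ι.continuous).isClosed_compl
  obtain ⟨𝒮, hfin, hfin_cl, hirr, hZ𝒮⟩ := NoetherianSpace.exists_finite_set_isClosed_irreducible hZ
  let 𝒞 := {t ∈ 𝒮 | (⟨x, hxV₀⟩ : V₀') ∉ t}
  have hC : IsClosed (V₀.1.ι '' (⋃₀ 𝒞)ᶜ)ᶜ := by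
    refine isClosed_compl_iff.2 (V₀.1.ι.isOpenEmbedding.isOpenMap _ ?_)
    rw [Set.sUnion_eq_biUnion]
    exact ((hfin.subset (fun t ht => ht.1) : 𝒞.Finite).isClosed_biUnion
      fun t ht => hfin_cl t ht.1).isOpen_compl
  let O' : S.Opens := ⟨V₀.1.ι '' (⋃₀ 𝒞)ᶜ, isClosed_compl_iff.1 hC⟩
  obtain ⟨V, hxV, hV⟩ := Groth.Divisors.exists_affine_le x O' ⟨⟨x, hxV₀⟩, by
    rintro ⟨t, ht, hxt⟩; exact ht.2 hxt, rfl⟩
  have hVle : V.1 ≤ V₀.1 := fun v hv => by
    obtain ⟨v', -, rfl⟩ := hV hv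
    exact v'.2
  refine ⟨V, hxV, fun l => (S.presheaf.map (homOfLE hVle).op).hom (a₀ l), c, hc, fun l => ?_,
    fun v hv hall => ?_⟩
  · refine (TopCat.Presheaf.germ_res_apply S.presheaf (homOfLE hVle) _ _ _).trans ?_
    rw [← hac l, ← hgx l]
    exact (TopCat.Presheaf.germ_stalkSpecializes_apply S.presheaf (U := V₀.1) hxV₀
      (genericPoint_specializes x) (a₀ l)).symm
  · obtain ⟨v', hv', rfl⟩ := hV hv
    have hvZ : v' ∈ Z := Set.mem_iInter.2 fun l hl => hall l (by
      rw [Scheme.mem_basicOpen _ _ _ hv]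
      erw [TopCat.Presheaf.germ_res_apply]
      exact (Scheme.mem_basicOpen _ _ _ (hVle hv)).1 hl)
    rw [hZ𝒮] at hvZ
    obtain ⟨t, ht, hvt⟩ := hvZ
    have hxt : (⟨x, hxV₀⟩ : V₀') ∈ t := by
      by_contra hxt
      exact hv' ⟨t, ⟨ht, hxt⟩, hvt⟩
    obtain ⟨ζ, hζ⟩ := QuasiSober.sober (hirr t ht) (hfin_cl t ht)
    have hspec : V₀.1.ι ζ ⤳ x := (hζ.specializes hxt).map V₀.1.ι.continuous
    have hζZ : ζ ∈ Z := hZ𝒮 ▸ ⟨t, ht, hζ.mem⟩
    have hζx : V₀.1.ι ζ = x := by
      refine Groth.ArSurfBasics.FactorBlowUp.eq_of_comap_eq_maximal hspec (hP _ inferInstance fun l => ?_)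
      rw [Ideal.mem_comap, mem_maximalIdeal, ← hgx l,
        TopCat.Presheaf.germ_stalkSpecializes_apply S.presheaf (U := V₀.1) hxV₀ hspec]
      exact fun h => Set.mem_iInter.1 hζZ l ((Scheme.mem_basicOpen _ _ _ _).2 h)
    have : x ⤳ V₀.1.ι v' := hζx ▸ (hζ.specializes hvt).map V₀.1.ι.continuous
    exact hx.closure_eq.le (specializes_iff_mem_closure.1 this)

variable {k : Type u} [Field k] {X : Scheme.{u}}

/-- The indeterminacy of a rational map from a surface to a projective scheme at a regular closed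
point is resolved by a sequence of point blow-ups. -/
theorem exists_model (q : S ⟶ Spec (CommRingCat.of k)) (sX : X ⟶ Spec (CommRingCat.of k))
    {n : ℕ} (ιX : X ⟶ CohB1.ProjSpace n k) [IsClosedImmersion ιX]
    (hsX : ιX ≫ CohB1.ProjSpace.toSpec n k = sX)
    (U : S.Opens) (hU : (U : Set S).Nonempty) (φ₀ : (U : Scheme.{u}) ⟶ X) (hφ₀ : φ₀ ≫ sX = U.ι ≫ q)
    {x : S} (hx : IsClosed ({x} : Set S))
    [IsRegularLocalRing (S.presheaf.stalk x)] (hdim : ringKrullDim (S.presheaf.stalk x) = 2) :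
    ∃ (V : S.Opens) (W : Scheme.{u}) (g : W ⟶ V) (φ : W ⟶ X), x ∈ V ∧ IsAffineOpen V ∧
      Models.IsContractionSeq g ∧ IsIntegral W ∧ IsProper g ∧ φ ≫ sX = g ≫ V.ι ≫ q ∧
      IsIso (g ∣_ (V.ι ⁻¹ᵁ ⟨({x} : Set S)ᶜ, hx.isOpen_compl⟩)) ∧
      ∀ (T : Scheme.{u}) (a : T ⟶ W) (b : T ⟶ U), a ≫ g ≫ V.ι = b ≫ U.ι → a ≫ φ = b ≫ φ₀ := by
  haveI := Groth.Variety2.isProper_projSpace_toSpec n k
  haveI : IsProper sX := hsX ▸ inferInstance
  haveI : X.IsSeparated := ⟨by rw [← terminal.comp_from sX]; infer_instance⟩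
  have hgenU : genericPoint S ∈ U :=
    ((genericPoint_spec S).mem_open_set_iff U.2).2 ⟨hU.some, trivial, hU.some_mem⟩
  let jS := U.fromSpecStalkOfMem (genericPoint S) hgenU
  obtain ⟨i, f, b, hb, hpt⟩ := exists_pt (jS ≫ φ₀ ≫ ιX)
  obtain ⟨V, hxV, a, c, hc, hac, hbad⟩ := exists_primitive_nhd hx hdim b i (by rw [hb]; exact one_ne_zero)
  let V' : Scheme.{u} := V.1
  have hmemV : ∀ v : V', v ∈ (⊤ : V'.Opens) := fun v => trivial
  haveI : IsAffine V' := V.2
  haveI : IsLocallyNoetherian V' := inferInstanceAs (IsLocallyNoetherian (V.1 : Scheme.{u}))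
  haveI : Nonempty V' := ⟨⟨x, hxV⟩⟩
  haveI : IsIntegral V' := isIntegral_of_isOpenImmersion V.1.ι
  let a' : Fin (n + 1) → Γ(V', ⊤) := fun l => (V.1.ι.appLE V.1 ⊤ V.1.ι_preimage_self.ge).hom (a l)
  let J : V'.IdealSheafData := Scheme.IdealSheafData.ofIdealTop (Ideal.span (Set.range a'))
  have hJ : ∀ v : V', stalkIdeal J v =
      Ideal.span (Set.range fun l => (V'.presheaf.germ ⊤ v (hmemV v)).hom (a' l)) := fun v => by
    rw [Groth.ParaFormal.stalkIdeal_eq J ⟨⊤, isAffineOpen_top _⟩ (x := v) (hmemV v),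
      Scheme.IdealSheafData.ofIdealTop_ideal]
    simp only [homOfLE_refl, op_id, CategoryTheory.Functor.map_id, CommRingCat.hom_id, Ideal.map_id,
      Ideal.map_span, ← Set.range_comp]
    rfl
  have hstalk : ∀ (v : V') (l : Fin (n + 1)), (V'.presheaf.germ ⊤ v (hmemV v)).hom (a' l) =
      (V.1.ι.stalkMap v).hom ((S.presheaf.germ V.1 v.1 v.2).hom (a l)) := fun v l => by
    have h := Scheme.Hom.germ_stalkMap_apply V.1.ι V.1 v v.2 (a l)
    refine Eq.trans ?_ h.symm
    exact TopCat.Presheaf.germ_res_apply V'.presheaf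
      (homOfLE V.1.ι_preimage_self.ge) v (hmemV v) ((V.1.ι.app V.1).hom (a l))
  have hsupp : ∀ v ∈ J.support, v.1 = x := fun v hv => by
    refine hbad v.1 v.2 fun l hl => ?_
    refine ((Groth.ArSurfBasics.Principalization.stalkIdeal_eq_top_iff J v).1 ?_) hv
    rw [hJ v]
    refine Ideal.eq_top_of_isUnit_mem _ (Ideal.subset_span ⟨l, rfl⟩) ?_
    dsimp only
    rw [hstalk v l]
    exact ((Scheme.mem_basicOpen _ _ _ v.2).1 hl).map _
  let xV : V' := ⟨x, hxV⟩
  have hcl : IsClosed ({xV} : Set V') := by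
    convert hx.preimage V.1.ι.continuous
    ext v
    show v = xV ↔ V.1.ι v = x
    exact ⟨fun e => by rw [e]; rfl, fun e => Subtype.ext e⟩
  haveI hregV : IsRegularLocalRing (V'.presheaf.stalk xV) := by
    haveI : IsRegularLocalRing (S.presheaf.stalk (V.1.ι xV)) :=
      inferInstanceAs (IsRegularLocalRing (S.presheaf.stalk x))
    exact IsRegularLocalRing.of_ringEquiv (asIso (V.1.ι.stalkMap xV)).commRingCatIsoToRingEquiv
  have hdimV : ringKrullDim (V'.presheaf.stalk xV) = 2 :=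
    (ringKrullDim_eq_of_ringEquiv (asIso (V.1.ι.stalkMap xV)).commRingCatIsoToRingEquiv).symm.trans hdim
  have hgood : Groth.ArSurfBasics.Principalization.Good J := by
    have hsub : ∀ v ∈ J.support, v = xV := fun v hv => Subtype.ext (hsupp v hv)
    refine ⟨(Set.finite_singleton xV).subset hsub, fun v hv => ?_, fun v hv => ?_, fun v hv => ?_⟩
    · rw [hsub v hv]; exact hcl
    · rw [hsub v hv]; exact hregV
    · rw [hsub v hv]; exact hdimV
  obtain ⟨W, g, hg, hgiso, hgJ, -⟩ := Groth.ArSurfBasics.Principalization.exists_principalization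
    (Groth.ArSurfBasics.Principalization.col J xV) J hgood
    (fun v hv => by rw [Subtype.ext (hsupp v hv) (a1 := v) (a2 := xV)]) (𝟙 V')
    (Models.IsContractionSeq.iso (Iso.refl V'))
  rw [Category.comp_id] at hg
  obtain ⟨hgp, hgint⟩ := isIntegral_seq hg
  haveI := hgp
  haveI : IsIntegral W := hgint
  haveI : IsLocallyNoetherian W := LocallyOfFiniteType.isLocallyNoetherian g
  let P : V'.Opens := V.1.ι ⁻¹ᵁ ⟨({x} : Set S)ᶜ, hx.isOpen_compl⟩
  haveI hPiso : IsIso (g ∣_ P) := @Groth.ArSurfBasics.Principalization.isIso_restrict_mono _ _ g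
    ⟨(J.support : Set V')ᶜ, J.support.isClosed.isOpen_compl⟩ P (fun v hv hv' => hv (hsupp v hv')) hgiso
  have hPne : (P : Set V').Nonempty := by
    refine ⟨⟨genericPoint S, (genericPoint_specializes x).mem_open V.1.2 hxV⟩, fun h => ?_⟩
    have hf : IsField (S.presheaf.stalk (genericPoint S)) := Field.toIsField S.functionField
    have h0 := ringKrullDim_eq_zero_of_isField hf
    rw [show genericPoint S = x from h, hdim] at h0
    exact absurd h0 (by norm_num)
  let h : W ⟶ S := g ≫ V.1.ι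
  have hgen : h (genericPoint W) = genericPoint S := by
    rw [Scheme.Hom.comp_apply, (Groth.ArSurfBasics.Factorization.apply_genericPoint g hPiso hPne).1]
    exact genericPoint_eq_of_isOpenImmersion V.1.ι
  let m : S.functionField ⟶ W.functionField :=
    S.presheaf.stalkSpecializes (specializes_of_eq hgen) ≫ h.stalkMap (genericPoint W)
  have hm : W.fromSpecStalk (genericPoint W) ≫ h = Spec.map m ≫ S.fromSpecStalk (genericPoint S) := by
    rw [Spec.map_comp, Category.assoc, Scheme.SpecMap_stalkSpecializes_fromSpecStalk,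
      Scheme.SpecMap_stalkMap_fromSpecStalk]
  let η : Spec W.functionField ⟶ X := Spec.map m ≫ jS ≫ φ₀
  have hjS : jS ≫ U.ι = S.fromSpecStalk (genericPoint S) := Scheme.Opens.fromSpecStalkOfMem_ι _ _ _
  have hη : η ≫ sX = W.fromSpecStalk (genericPoint W) ≫ h ≫ q := by
    rw [Category.assoc, Category.assoc, hφ₀, reassoc_of% hjS, reassoc_of% hm]
  have hpt' : η ≫ ιX = pt i (m.hom.comp f) (m.hom ∘ b) (by simp [hb]) := by
    rw [Category.assoc, Category.assoc, hpt, comp_pt]
  have hext : ∀ w : W, ExtendsAt (h ≫ q) sX η w := fun w => by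
    let s : Fin (n + 1) → W.presheaf.stalk w := fun l =>
      (g.stalkMap w).hom ((V'.presheaf.germ ⊤ (g w) (hmemV _)).hom (a' l))
    have hs : ∀ l, (W.presheaf.stalkSpecializes (genericPoint_specializes w)).hom (s l) =
        m.hom c * (m.hom ∘ b) l := fun l => by
      rw [Function.comp_apply, ← map_mul, ← hac l]
      have hwV : h w ∈ V.1 := (g w : (V.1 : Scheme.{u})).2
      have hgV : genericPoint S ∈ V.1 := (genericPoint_specializes x).mem_open V.1.2 hxV
      have h1 : s l = (h.stalkMap w).hom ((S.presheaf.germ V.1 (h w) hwV).hom (a l)) := by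
        simp only [s, hstalk, h]
        rw [Scheme.Hom.stalkMap_comp]
        rfl
      rw [h1]
      change (S.presheaf.germ V.1 (h w) hwV ≫ h.stalkMap w ≫
          W.presheaf.stalkSpecializes (genericPoint_specializes w)).hom (a l) =
        (S.presheaf.germ V.1 (genericPoint S) hgV ≫ m).hom (a l)
      refine congrArg (fun φ => (φ : _ ⟶ W.functionField).hom (a l)) ?_
      simp only [m]
      rw [TopCat.Presheaf.germ_stalkSpecializes_assoc, Scheme.Hom.germ_stalkMap_assoc,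
        Scheme.Hom.germ_stalkMap, TopCat.Presheaf.germ_stalkSpecializes]
    obtain ⟨W₁, hw₁, t, ht, hspan⟩ := hgJ w
    have hst : Ideal.span (Set.range s) = Ideal.span {(W.presheaf.germ W₁.1 w hw₁).hom t} := by
      have e := Groth.ParaFormal.stalkIdeal_comap J g w
      rw [Groth.ParaFormal.stalkIdeal_eq _ W₁ hw₁, hspan, hJ, Ideal.map_span, Ideal.map_span,
        Set.image_singleton, ← Set.range_comp] at e
      exact e.symm
    haveI : Nonempty (W₁.1 : Scheme.{u}) := ⟨⟨w, hw₁⟩⟩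
    have ht' : (W.presheaf.germ W₁.1 w hw₁).hom t ≠ 0 := fun e => by
      have h0 : t = 0 := germ_injective_of_isIntegral W w hw₁ (e.trans (map_zero _).symm)
      exact nonZeroDivisors.ne_zero ht h0
    obtain ⟨j, hj, hdvd⟩ := exists_generator s ht' hst
    exact extendsAt_of_generator (h ≫ q) ιX sX hsX η hη hpt' w s (m.hom c)
      (by simpa using hc) hs hj hdvd
  obtain ⟨φ, hφ, hφη⟩ := exists_hom (h ≫ q) sX hext
  refine ⟨V.1, W, g, φ, hxV, V.2, hg, inferInstance, inferInstance, hφ.trans (Category.assoc _ _ _),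
    hPiso, fun T a b hab => ?_⟩
  have hgenW : genericPoint W ∈ h ⁻¹ᵁ U := by
    show h (genericPoint W) ∈ U
    rw [hgen]; exact hgenU
  have hres : (h ⁻¹ᵁ U).ι ≫ φ = (h ∣_ U) ≫ φ₀ := by
    haveI : Nonempty (h ⁻¹ᵁ U : Scheme.{u}) := ⟨⟨_, hgenW⟩⟩
    haveI : IsDominant ((h ⁻¹ᵁ U).fromSpecStalkOfMem (genericPoint W) hgenW) := ⟨by
      rw [DenseRange, dense_iff_closure_eq, ← Set.univ_subset_iff, ← (genericPoint_spec _).def]
      refine closure_mono (Set.singleton_subset_iff.2 ⟨IsLocalRing.closedPoint _, ?_⟩)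
      apply (h ⁻¹ᵁ U).ι.isOpenEmbedding.injective
      rw [← Scheme.Hom.comp_apply, Scheme.Opens.fromSpecStalkOfMem_ι, Scheme.fromSpecStalk_closedPoint,
        genericPoint_eq_of_isOpenImmersion]⟩
    refine ext_of_isDominant (ι := (h ⁻¹ᵁ U).fromSpecStalkOfMem (genericPoint W) hgenW) ?_
    rw [← Category.assoc, Scheme.Opens.fromSpecStalkOfMem_ι, hφη, ← Category.assoc]
    change (Spec.map m ≫ jS ≫ φ₀) = _
    rw [← Category.assoc]
    congr 1
    rw [← cancel_mono U.ι]
    simp only [Category.assoc, morphismRestrict_ι, hjS, ← hm,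
      Scheme.Opens.fromSpecStalkOfMem_ι_assoc]
  have hrange : Set.range a ⊆ Set.range (h ⁻¹ᵁ U).ι := by
    rintro _ ⟨z, rfl⟩
    rw [Scheme.Opens.range_ι]
    show h (a z) ∈ U
    rw [← Scheme.Hom.comp_apply, show a ≫ h = b ≫ U.ι from hab, Scheme.Hom.comp_apply]
    exact (b z).2
  rw [← IsOpenImmersion.lift_fac (h ⁻¹ᵁ U).ι a hrange, Category.assoc, hres, ← Category.assoc]
  congr 1
  rw [← cancel_mono U.ι, Category.assoc, morphismRestrict_ι, IsOpenImmersion.lift_fac_assoc]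
  exact hab

end Groth.BendBreak
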