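import Groth.Agent.BendBreak.Coords
import Groth.Agent.ParaFormal.StalkIdeal
import Groth.Agent.PicAux.RegularUFD
import Groth.Agent.ArSurfBasics.FactorBlowUp

/-!
# Coprime homogeneous coordinates near a regular point of a surface
-/

set_option autoImplicit false
set_option backward.isDefEq.respectTransparency.types false

universe u

open CategoryTheory CategoryTheory.Limits AlgebraicGeometry IsLocalRing

noncomputable section

namespace Groth.BendBreak

/-- Every finite nonzero family in the fraction field of a two-dimensional factorial local ring is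
proportional to a family in the ring which only vanishes simultaneously at the closed point. -/
theorem exists_primitive {O : Type u} [CommRing O] [IsLocalRing O] [IsDomain O] [IsNoetherianRing O]
    [UniqueFactorizationMonoid O] (hdim : ringKrullDim O ≤ 2) {K : Type u} [Field K] [Algebra O K]
    [IsFractionRing O K] {ι : Type*} [Fintype ι] (b : ι → K) (i : ι) (hb : b i ≠ 0) :
    ∃ (a : ι → O) (c : K), c ≠ 0 ∧ (∀ l, algebraMap O K (a l) = c * b l) ∧
      ∀ P : Ideal O, P.IsPrime → (∀ l, a l ∈ P) → P = maximalIdeal O := by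
  classical
  obtain ⟨D, hD⟩ := IsLocalization.exist_integer_multiples (nonZeroDivisors O) (Finset.univ : Finset ι) b
  choose a₀ ha₀ using fun l => hD l (Finset.mem_univ l)
  simp only [Algebra.smul_def] at ha₀
  have hD0 : algebraMap O K (D : O) ≠ 0 :=
    IsFractionRing.to_map_ne_zero_of_mem_nonZeroDivisors D.2
  letI := UniqueFactorizationMonoid.normalizationMonoid (α := O)
  letI := UniqueFactorizationMonoid.toNormalizedGCDMonoid O
  obtain ⟨a, ha, hgcd⟩ := Finset.extract_gcd a₀ (s := Finset.univ) ⟨i, Finset.mem_univ i⟩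
  set d := Finset.univ.gcd a₀
  have hd : algebraMap O K d ≠ 0 := fun h => by
    have h0 : a₀ i = 0 := by
      rw [ha i (Finset.mem_univ i), (IsFractionRing.injective O K) (h.trans (map_zero _).symm), zero_mul]
    exact mul_ne_zero hD0 hb ((ha₀ i).symm.trans (by rw [h0, map_zero]))
  refine ⟨a, algebraMap O K (D : O) / algebraMap O K d, div_ne_zero hD0 hd, fun l => ?_, fun P hP hall => ?_⟩
  · rw [div_mul_eq_mul_div, eq_div_iff hd, ← ha₀ l, ha l (Finset.mem_univ l), map_mul, mul_comm]
  · by_contra hne
    haveI := hP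
    have hP0 : P ≠ ⊥ := fun h0 => by
      have hz : ∀ l, a l = 0 := fun l => by simpa [h0] using hall l
      have h1 : Finset.univ.gcd a = 0 := Finset.gcd_eq_zero_iff.2 fun l _ => hz l
      exact one_ne_zero (hgcd.symm.trans h1)
    obtain ⟨π, hπP, hπ⟩ := Ideal.IsPrime.exists_mem_prime_of_ne_bot hP hP0
    have hle : Ideal.span {π} ≤ P := (Ideal.span_singleton_le_iff_mem P).2 hπP
    haveI : (Ideal.span {π}).IsPrime := (Ideal.span_singleton_prime hπ.ne_zero).2 hπ
    have hnot : Ideal.span {π} ≠ P := fun he => by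
      have hdvd : π ∣ Finset.univ.gcd a := Finset.dvd_gcd fun l _ =>
        Ideal.mem_span_singleton.1 (he.ge (hall l))
      rw [hgcd] at hdvd
      exact hπ.not_unit (isUnit_of_dvd_one hdvd)
    have hlt : P < maximalIdeal O := lt_of_le_of_ne (le_maximalIdeal hP.ne_top) hne
    let p0 : PrimeSpectrum O := ⟨⊥, Ideal.isPrime_bot⟩
    let p1 : PrimeSpectrum O := ⟨Ideal.span {π}, inferInstance⟩
    let p2 : PrimeSpectrum O := ⟨P, hP⟩
    let p3 : PrimeSpectrum O := closedPoint O
    have h01 : p0 < p1 := (bot_lt_iff_ne_bot.2 (by simpa using hπ.ne_zero) : (⊥ : Ideal O) < Ideal.span {π})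
    have h12 : p1 < p2 := (lt_of_le_of_ne hle hnot : Ideal.span {π} < P)
    have h23 : p2 < p3 := hlt
    let s : LTSeries (PrimeSpectrum O) := (((RelSeries.singleton _ p0).snoc p1 h01).snoc p2
      (by simpa using h12)).snoc p3 (by simpa using h23)
    have h3 : ((3 : ℕ) : WithBot ℕ∞) ≤ ringKrullDim O := Order.LTSeries.length_le_krullDim s
    exact absurd (h3.trans hdim) (by norm_num)

/-- A finitely generated ideal which is principal in a local ring is generated by one of its given
generators. -/
theorem exists_generator {A : Type u} [CommRing A] [IsLocalRing A] [IsDomain A] {ι : Type*} [Fintype ι]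
    (s : ι → A) {t : A} (ht : t ≠ 0) (h : Ideal.span (Set.range s) = Ideal.span {t}) :
    ∃ j, s j ≠ 0 ∧ ∀ l, s j ∣ s l := by
  have hmem : ∀ l, t ∣ s l := fun l =>
    Ideal.mem_span_singleton.1 (h ▸ Ideal.subset_span ⟨l, rfl⟩)
  choose c hc using hmem
  obtain ⟨e, he⟩ := Ideal.mem_span_range_iff_exists_fun.1
    (h.ge (Ideal.mem_span_singleton_self t) : t ∈ Ideal.span (Set.range s))
  have h1 : ∑ l, e l * c l = 1 := mul_left_cancel₀ ht (by
    rw [Finset.mul_sum, mul_one]
    conv_rhs => rw [← he]
    exact Finset.sum_congr rfl fun l _ => by rw [hc l]; ring)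
  obtain ⟨j, hj⟩ : ∃ j, IsUnit (c j) := by
    by_contra hno
    push Not at hno
    refine (IsLocalRing.maximalIdeal.isMaximal A).ne_top ((Ideal.eq_top_iff_one _).2 (h1 ▸ ?_))
    exact Ideal.sum_mem _ fun l _ => Ideal.mul_mem_left _ _ ((mem_maximalIdeal _).2 (hno l))
  refine ⟨j, by rw [hc j]; exact mul_ne_zero ht hj.ne_zero, fun l => ?_⟩
  rw [hc j, hc l]
  exact mul_dvd_mul_left t (hj.dvd)

theorem exists_lift_closedImmersion {T P Z : Scheme.{u}} [IsReduced T] (i : Z ⟶ P) [IsClosedImmersion i]
    (f : T ⟶ P) (h : Set.range f ⊆ Set.range i) : ∃ l : T ⟶ Z, l ≫ i = f := by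
  haveI : IsClosedImmersion (pullback.fst f i) := inferInstance
  haveI : Surjective (pullback.fst f i) := ⟨fun t => by
    obtain ⟨z, hz⟩ := h ⟨t, rfl⟩
    obtain ⟨w, hw, -⟩ := Scheme.Pullback.exists_preimage_pullback (f := f) (g := i) t z hz.symm
    exact ⟨w, hw⟩⟩
  haveI : IsIso (pullback.fst f i) := isIso_of_isClosedImmersion_of_surjective _
  exact ⟨inv (pullback.fst f i) ≫ pullback.snd f i, by
    rw [Category.assoc, ← pullback.condition, IsIso.inv_hom_id_assoc]⟩

variable {R : Type u} [CommRing R] {n : ℕ}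

/-- A rational map to a closed subscheme of projective space extends to a local ring as soon as it is
given there by homogeneous coordinates one of which generates the others. -/
theorem extendsAt_of_generator {W X : Scheme.{u}} [IsIntegral W] (q : W ⟶ Spec (CommRingCat.of R))
    (ιX : X ⟶ CohB1.ProjSpace n R) [IsClosedImmersion ιX]
    (sX : X ⟶ Spec (CommRingCat.of R)) (hsX : ιX ≫ CohB1.ProjSpace.toSpec n R = sX)
    (η : Spec W.functionField ⟶ X) (hη : η ≫ sX = W.fromSpecStalk (genericPoint W) ≫ q)
    {i : Fin (n + 1)} {f : R →+* W.functionField} {b : Fin (n + 1) → W.functionField} {hb : b i = 1}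
    (hpt : η ≫ ιX = pt i f b hb) (w : W) (s : Fin (n + 1) → W.presheaf.stalk w)
    (c : W.functionField) (hc : c ≠ 0)
    (hs : ∀ l, (W.presheaf.stalkSpecializes (genericPoint_specializes w)).hom (s l) = c * b l)
    {j : Fin (n + 1)} (hj : s j ≠ 0) (hdvd : ∀ l, s j ∣ s l) : ExtendsAt q sX η w := by
  let T := (W.presheaf.stalkSpecializes (genericPoint_specializes w)).hom
  obtain ⟨fw, hfw⟩ := Spec.map_surjective (W.fromSpecStalk w ≫ q)
  choose e he using hdvd
  have hej : e j = 1 := by
    have := he j
    exact mul_left_cancel₀ hj (this.symm.trans (mul_one _).symm)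
  let ψ := pt j fw.hom e hej
  have hψ : ψ ≫ CohB1.ProjSpace.toSpec n R = W.fromSpecStalk w ≫ q := by
    rw [pt_toSpec]; exact hfw
  have hf : T.comp fw.hom = f := by
    have h1 : Spec.map (CommRingCat.ofHom f) = toGen w ≫ Spec.map fw := by
      rw [← pt_toSpec i f b hb, ← hpt, Category.assoc, hsX, hη, hfw, ← Category.assoc, toGen_fromSpecStalk]
    rw [toGen, ← Spec.map_comp] at h1
    exact (congrArg CommRingCat.Hom.hom (Spec.map_injective h1)).symm
  have hTj : T (s j) = c * b j := hs j
  have hgen : toGen w ≫ ψ = η ≫ ιX := by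
    rw [hpt, toGen, comp_pt]
    subst hf
    symm
    refine pt_change _ _ _ hb _ fun l => ?_
    refine mul_left_cancel₀ hc ?_
    rw [← hs l, he l, map_mul, hs j, Function.comp_apply]
    ring
  have hrange : Set.range ψ ⊆ Set.range ιX := by
    rintro _ ⟨z, rfl⟩
    have hz : (toGen w (closedPoint W.functionField)) ⤳ z := by
      refine (PrimeSpectrum.le_iff_specializes _ _).1 ?_
      have h0 : ((toGen w) (closedPoint W.functionField)).asIdeal = ⊥ := by
        change Ideal.comap T (maximalIdeal W.functionField) = ⊥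
        rw [IsLocalRing.maximalIdeal_eq_bot]
        exact Ideal.comap_bot_of_injective T (IsFractionRing.injective (W.presheaf.stalk w) W.functionField)
      exact h0.trans_le bot_le
    refine (hz.map ψ.continuous).mem_closed ιX.isClosedEmbedding.isClosed_range ?_
    rw [← Scheme.Hom.comp_apply, hgen]
    exact ⟨η _, rfl⟩
  obtain ⟨g, hg⟩ := exists_lift_closedImmersion ιX ψ hrange
  refine ⟨g, by rw [← hsX, ← Category.assoc, hg, hψ], ?_⟩
  rw [← cancel_mono ιX, Category.assoc, hg, hgen]

end Groth.BendBreak
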