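import Groth.Agent.BendBreak.Curve
import Groth.Agent.S1582
import Groth.Agent.FBaseGeom.Prod
import Groth.Agent.Agf.RegularPoints

/-!
# Products of two smooth curves
-/

set_option autoImplicit false
set_option backward.isDefEq.respectTransparency.types false

universe u

open CategoryTheory CategoryTheory.Limits AlgebraicGeometry IsLocalRing

noncomputable section

namespace Groth.BendBreak

variable {k : Type u} [Field k] {C B : Scheme.{u}} (fC : C ⟶ Spec (CommRingCat.of k))
  (fB : B ⟶ Spec (CommRingCat.of k))

theorem regular_prod [Smooth fC] [Smooth fB] (s : ↥(pullback fC fB)) :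
    IsRegularLocalRing ((pullback fC fB).presheaf.stalk s) := by
  haveI : Smooth (pullback.fst fC fB ≫ fC) := inferInstance
  let _ : Field ((Spec (CommRingCat.of k)).presheaf.stalk ((pullback.fst fC fB ≫ fC) s)) :=
    (Variety2.isField_stalk (Subsingleton.elim (α := PrimeSpectrum k) _ _)).toField
  have : IsRegularLocalRing
      ((Spec (CommRingCat.of k)).presheaf.stalk ((pullback.fst fC fB ≫ fC) s)) := inferInstance
  exact Groth.Agf.RegularPoints.isRegularLocalRing_stalk_of_smooth (pullback.fst fC fB ≫ fC) s

theorem dim_stalk_prod [LocallyOfFiniteType fC] [LocallyOfFiniteType fB] [IsIntegral (pullback fC fB)]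
    (hC : topologicalKrullDim C = 1) (hB : topologicalKrullDim B = 1) {s : ↥(pullback fC fB)}
    (hs : IsClosed ({s} : Set ↥(pullback fC fB))) :
    ringKrullDim ((pullback fC fB).presheaf.stalk s) = 2 := by
  have hh : Order.height s = 0 := Order.height_eq_zero.mpr fun y hy => by
    have : y ∈ closure ({s} : Set ↥(pullback fC fB)) := specializes_iff_mem_closure.mp hy
    rw [hs.closure_eq] at this
    exact (this : y = s).symm.le
  have h := Groth.Variety2.Dim.ringKrullDim_stalk_add_height (pullback.fst fC fB ≫ fC) s
  rw [hh, Groth.FBaseGeom.dim_prod fC fB, hC, hB] at h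
  simpa [one_add_one_eq_two] using h

end Groth.BendBreak
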